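import Mathlib
import Groth.Prelude.Def_FDesc
import Groth.Agent.GenFree.Modules
import Groth.Agent.FlatLocus.ModInjFlat
import Groth.Agent.QCohLib.FiniteType

/-! Associated points of quasi-coherent modules read on an affine open. -/

set_option autoImplicit false
set_option backward.isDefEq.respectTransparency false
set_option linter.style.haveILetI false

universe u

open CategoryTheory AlgebraicGeometry TopologicalSpace

namespace Groth.Agent.AssLib

variable {X : Scheme.{u}} {M : X.Modules} [Coh.IsQCoh M] {W : X.Opens} (hW : IsAffineOpen W) {x : X} (hx : x ∈ W)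

/-- The prime of `Γ(X, W)` at `x ∈ W`. -/
noncomputable abbrev pr : Ideal Γ(X, W) := (hW.primeIdealOf ⟨x, hx⟩).asIdeal

lemma under_maximalIdeal :
    (IsLocalRing.maximalIdeal (X.presheaf.stalk x)).comap (X.presheaf.germ W x hx).hom = pr hW hx := by
  letI : Algebra Γ(X, W) (X.presheaf.stalk x) := TopCat.Presheaf.algebra_section_stalk X.presheaf ⟨x, hx⟩
  haveI := hW.isLocalization_stalk ⟨x, hx⟩
  exact IsLocalization.AtPrime.under_maximalIdeal (X.presheaf.stalk x) (pr hW hx)

theorem isAssPoint_of_mem (h : pr hW hx ∈ associatedPrimes Γ(X, W) Γ(M, W)) : Curv2.IsAssPoint M x := by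
  letI := Module.compHom (M.presheaf.stalk x) (X.presheaf.germ W x hx).hom
  obtain ⟨g, hg⟩ := GenFree.exists_isLocalizedModule_germ M hW x hx
  haveI := hg
  letI : Algebra Γ(X, W) (X.presheaf.stalk x) := TopCat.Presheaf.algebra_section_stalk X.presheaf ⟨x, hx⟩
  haveI := hW.isLocalization_stalk ⟨x, hx⟩
  haveI : IsScalarTower Γ(X, W) (X.presheaf.stalk x) (M.presheaf.stalk x) := .of_algebraMap_smul fun _ _ => rfl
  refine Module.associatedPrimes.mem_associatedPrimes_of_comap_mem_associatedPrimes_of_isLocalizedModule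
    (pr hW hx).primeCompl g _ ?_
  rwa [show Ideal.comap (algebraMap Γ(X, W) (X.presheaf.stalk x)) (IsLocalRing.maximalIdeal _) = pr hW hx from
    under_maximalIdeal hW hx]

theorem mem_of_isAssPoint (hfg : (pr hW hx).FG) (h : Curv2.IsAssPoint M x) :
    pr hW hx ∈ associatedPrimes Γ(X, W) Γ(M, W) := by
  letI := Module.compHom (M.presheaf.stalk x) (X.presheaf.germ W x hx).hom
  obtain ⟨g, hg⟩ := GenFree.exists_isLocalizedModule_germ M hW x hx
  haveI := hg
  letI : Algebra Γ(X, W) (X.presheaf.stalk x) := TopCat.Presheaf.algebra_section_stalk X.presheaf ⟨x, hx⟩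
  haveI := hW.isLocalization_stalk ⟨x, hx⟩
  haveI : IsScalarTower Γ(X, W) (X.presheaf.stalk x) (M.presheaf.stalk x) := .of_algebraMap_smul fun _ _ => rfl
  have hc : Ideal.comap (algebraMap Γ(X, W) (X.presheaf.stalk x)) (IsLocalRing.maximalIdeal _) = pr hW hx :=
    under_maximalIdeal hW hx
  rw [← hc]
  exact Module.associatedPrimes.comap_mem_associatedPrimes_of_mem_associatedPrimes_of_isLocalizedModule_of_fg
    (pr hW hx).primeCompl g _ h (hc ▸ hfg)

theorem isAssPoint_iff [IsNoetherianRing Γ(X, W)] :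
    Curv2.IsAssPoint M x ↔ pr hW hx ∈ associatedPrimes Γ(X, W) Γ(M, W) :=
  ⟨mem_of_isAssPoint hW hx (IsNoetherian.noetherian _), isAssPoint_of_mem hW hx⟩

theorem nontrivial_stalk_iff :
    Nontrivial ↑(M.presheaf.stalk x) ↔ hW.primeIdealOf ⟨x, hx⟩ ∈ Module.support Γ(X, W) Γ(M, W) := by
  letI := Module.compHom (M.presheaf.stalk x) (X.presheaf.germ W x hx).hom
  obtain ⟨g, hg⟩ := GenFree.exists_isLocalizedModule_germ M hW x hx
  haveI := hg
  rw [Module.mem_support_iff]
  exact (IsLocalizedModule.iso (pr hW hx).primeCompl g).toEquiv.nontrivial_congr.symm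

/-- A germ vanishes iff the section is killed off the prime. -/
theorem germ_eq_zero_iff (s : Γ(M, W)) :
    M.presheaf.germ W x hx s = 0 ↔ ∃ a : Γ(X, W), a ∉ pr hW hx ∧ a • s = 0 := by
  letI := Module.compHom (M.presheaf.stalk x) (X.presheaf.germ W x hx).hom
  haveI := FlatLocus.isLocalizedModule_germL M hW x hx
  refine (IsLocalizedModule.eq_zero_iff (pr hW hx).primeCompl (FlatLocus.germL M W x hx) (m := s)).trans ?_
  exact ⟨fun ⟨a, ha⟩ => ⟨a.1, a.2, ha⟩, fun ⟨a, ha, h⟩ => ⟨⟨a, ha⟩, h⟩⟩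

/-- The point of `W` at a prime of `Γ(X, W)`. -/
noncomputable def pt (q : PrimeSpectrum Γ(X, W)) : X := hW.fromSpec q

lemma pt_mem (q : PrimeSpectrum Γ(X, W)) : pt hW q ∈ W := by
  rw [pt, ← SetLike.mem_coe, ← hW.range_fromSpec]
  exact ⟨q, rfl⟩

lemma primeIdealOf_pt (q : PrimeSpectrum Γ(X, W)) : hW.primeIdealOf ⟨pt hW q, pt_mem hW q⟩ = q :=
  hW.fromSpec.isOpenEmbedding.injective (hW.fromSpec_primeIdealOf _)

lemma pt_primeIdealOf : pt hW (hW.primeIdealOf ⟨x, hx⟩) = x := hW.fromSpec_primeIdealOf _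

lemma pr_pt (q : PrimeSpectrum Γ(X, W)) : pr hW (pt_mem hW q) = q.asIdeal := by
  rw [pr, primeIdealOf_pt]

theorem specializes_iff {y : X} (hy : y ∈ W) : y ⤳ x ↔ pr hW hy ≤ pr hW hx := by
  have h := hW.fromSpec.isOpenEmbedding.isInducing.specializes_iff (x := hW.primeIdealOf ⟨y, hy⟩)
    (y := hW.primeIdealOf ⟨x, hx⟩)
  rw [hW.fromSpec_primeIdealOf, hW.fromSpec_primeIdealOf] at h
  exact h.trans (PrimeSpectrum.le_iff_specializes _ _).symm

omit [Coh.IsQCoh M] in
lemma mem_of_specializes {y : X} (h : y ⤳ x) (hx : x ∈ W) : y ∈ W := h.mem_open W.2 hx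

variable (M) in
omit [Coh.IsQCoh M] in
/-- A section with zero germs vanishes. -/
lemma eq_zero_of_germ {V : X.Opens} (s : Γ(M, V)) (h : ∀ (x : X) (hx : x ∈ V), M.presheaf.germ V x hx s = 0) :
    s = 0 := by
  refine TopCat.Presheaf.section_ext (F := ⟨M.presheaf, M.isSheaf⟩) V s 0 fun x hx => ?_
  rw [map_zero]
  exact h x hx

end Groth.Agent.AssLib
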