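import Groth.Agent.AssLib.Basic
import Groth.Agent.WeakAssLib.Basic

/-! Weakly associated points of quasi-coherent modules read on an affine open. -/

set_option autoImplicit false
set_option backward.isDefEq.respectTransparency false
set_option linter.style.haveILetI false

universe u

open CategoryTheory AlgebraicGeometry TopologicalSpace

namespace Groth.Agent.AssLib

open WeakAssLib

section algebra

variable {R : Type u} [CommRing R] (P : Ideal R) [P.IsPrime] (R' : Type u) [CommRing R'] [IsLocalRing R']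
  [Algebra R R'] [IsLocalization.AtPrime R' P] {M M' : Type u} [AddCommGroup M] [Module R M]
  [AddCommGroup M'] [Module R M'] [Module R' M'] [IsScalarTower R R' M'] (g : M →ₗ[R] M')
  [IsLocalizedModule P.primeCompl g]

include g in
/-- The maximal ideal is minimal over an annihilator in the localisation iff the prime is below. -/
theorem radical_ker_iff_wit :
    (∃ y : M', Ideal.radical (LinearMap.ker (LinearMap.toSpanSingleton R' M' y)) = IsLocalRing.maximalIdeal R') ↔
      ∃ m : M, Wit P m := by
  constructor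
  · rintro ⟨y, hy⟩
    obtain ⟨⟨m, s⟩, hms⟩ := IsLocalizedModule.surj P.primeCompl g y
    refine ⟨m, fun r hr => ?_, fun r hr => ?_⟩
    · by_contra hrP
      have h0 : algebraMap R R' (r * s.1) • y = 0 := by
        rw [algebraMap_smul, mul_smul]
        change r • (s • y) = 0
        rw [hms, ← map_smul, hr, map_zero]
      have hu : IsUnit (algebraMap R R' (r * s.1)) := IsLocalization.map_units R' (⟨r, hrP⟩ * s : P.primeCompl)
      have hmem : algebraMap R R' (r * s.1) ∈ IsLocalRing.maximalIdeal R' :=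
        hy ▸ Ideal.le_radical (by simpa using h0)
      exact hmem hu
    · have hmem : algebraMap R R' r ∈ IsLocalRing.maximalIdeal R' :=
        (IsLocalization.AtPrime.to_map_mem_maximal_iff R' P r).mpr hr
      rw [← hy] at hmem
      obtain ⟨n, hn⟩ := hmem
      rw [LinearMap.mem_ker, LinearMap.toSpanSingleton_apply, ← map_pow, algebraMap_smul] at hn
      have hgm : g (r ^ n • m) = 0 := by
        rw [map_smul, ← hms]
        change r ^ n • (s.1 • y) = 0
        rw [smul_comm, hn, smul_zero]
      obtain ⟨u, hu⟩ := (IsLocalizedModule.eq_zero_iff P.primeCompl g).mp hgm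
      exact ⟨u.1, u.2, n, by rw [mul_smul]; exact hu⟩
  · rintro ⟨m, hm⟩
    refine ⟨g m, le_antisymm ?_ fun a ha => ?_⟩
    · refine (Ideal.radical_mono (IsLocalRing.le_maximalIdeal fun htop => ?_)).trans_eq
        (Ideal.IsPrime.radical (Ideal.IsMaximal.isPrime (IsLocalRing.maximalIdeal.isMaximal R')))
      have h1 : (1 : R') • g m = 0 := htop.ge (Submodule.mem_top (x := (1 : R')))
      rw [one_smul] at h1
      obtain ⟨u, hu⟩ := (IsLocalizedModule.eq_zero_iff P.primeCompl g).mp h1
      exact u.2 (hm.le _ hu)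
    · obtain ⟨r, s, rfl⟩ := IsLocalization.exists_mk'_eq P.primeCompl a
      have hr : r ∈ P := (IsLocalization.AtPrime.mk'_mem_maximal_iff R' P r s).mp ha
      obtain ⟨t, ht, n, hn⟩ := hm.pow r hr
      refine ⟨n, ?_⟩
      rw [LinearMap.mem_ker, LinearMap.toSpanSingleton_apply]
      have h1 : algebraMap R R' r ^ n • g m = 0 := by
        rw [← map_pow, algebraMap_smul, ← map_smul]
        exact (IsLocalizedModule.eq_zero_iff P.primeCompl g).mpr ⟨⟨t, ht⟩, (smul_smul _ _ _).trans hn⟩
      rw [IsLocalization.mk'_eq_mul_mk'_one (S := R') r s, mul_comm, mul_pow, mul_smul, h1, smul_zero]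

end algebra

variable {X : Scheme.{u}} {M : X.Modules} [Coh.IsQCoh M]

theorem isWeakAssPoint_iff {W : X.Opens} (hW : IsAffineOpen W) {x : X} (hx : x ∈ W) :
    Curv2.IsWeakAssPoint M x ↔ ∃ m : Γ(M, W), Wit (pr hW hx) m := by
  letI := Module.compHom (M.presheaf.stalk x) (X.presheaf.germ W x hx).hom
  haveI := FlatLocus.isLocalizedModule_germL M hW x hx
  letI : Algebra Γ(X, W) (X.presheaf.stalk x) := TopCat.Presheaf.algebra_section_stalk X.presheaf ⟨x, hx⟩
  haveI := hW.isLocalization_stalk ⟨x, hx⟩
  haveI : IsScalarTower Γ(X, W) (X.presheaf.stalk x) (M.presheaf.stalk x) := .of_algebraMap_smul fun _ _ => rfl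
  exact radical_ker_iff_wit (pr hW hx) (X.presheaf.stalk x) (FlatLocus.germL M W x hx)

/-- A nonzero germ is detected at a weakly associated point generising the given one. -/
theorem exists_isWeakAssPoint {V : X.Opens} (s : Γ(M, V)) {x : X} (hx : x ∈ V)
    (hs : M.presheaf.germ V x hx s ≠ 0) :
    ∃ (y : X) (hy : y ∈ V), y ⤳ x ∧ Curv2.IsWeakAssPoint M y ∧ M.presheaf.germ V y hy s ≠ 0 := by
  obtain ⟨_, ⟨W : X.Opens, (hW : IsAffineOpen W), rfl⟩, hxW, hWV⟩ :=
    X.isBasis_affineOpens.exists_subset_of_mem_open (a := x) (u := (V : Set X)) hx V.2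
  let s' : Γ(M, W) := M.presheaf.map (homOfLE (show W ≤ V from hWV)).op s
  have hle : (Submodule.span Γ(X, W) {s'}).annihilator ≤ pr hW hxW := fun a ha => by
    by_contra haP
    refine hs ?_
    rw [← show M.presheaf.germ W x hxW s' = M.presheaf.germ V x hx s from M.presheaf.germ_res_apply _ _ _ s]
    exact (germ_eq_zero_iff hW hxW s').mpr ⟨a, haP, (Submodule.mem_annihilator_span_singleton s' a).mp ha⟩
  obtain ⟨P, hP, hPx⟩ := Ideal.exists_minimalPrimes_le hle
  obtain ⟨hPp, hw⟩ := (mem_minimalPrimes_iff P s').mp hP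
  let P' : PrimeSpectrum Γ(X, W) := ⟨P, hPp⟩
  refine ⟨pt hW P', hWV (pt_mem hW P'), (specializes_iff hW hxW (pt_mem hW P')).mpr (by rw [pr_pt]; exact hPx),
    (isWeakAssPoint_iff hW (pt_mem hW P')).mpr ⟨s', by rw [pr_pt]; exact hw⟩, fun h0 => ?_⟩
  rw [← show M.presheaf.germ W (pt hW P') (pt_mem hW P') s' = M.presheaf.germ V (pt hW P') (hWV (pt_mem hW P')) s from
    M.presheaf.germ_res_apply _ _ _ s] at h0
  obtain ⟨a, haP, ha⟩ := (germ_eq_zero_iff hW (pt_mem hW P') s').mp h0
  rw [pr_pt] at haP
  exact haP (hw.le a ha)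

end Groth.Agent.AssLib
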