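import Groth.Agent.AssLib.Noetherian
import Groth.Agent.AssLib.Weak
import Groth.Agent.QCohLib.Push

/-! Associated points of direct images. -/

set_option autoImplicit false
set_option backward.isDefEq.respectTransparency false
set_option linter.style.haveILetI false

universe u

open CategoryTheory AlgebraicGeometry TopologicalSpace

namespace Groth.Agent.AssLib

open WeakAssLib

/-- Associated and weakly associated points agree. -/
theorem isWeakAssPoint_iff_isAssPoint {X : Scheme.{u}} (M : X.Modules) (x : X) :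
    Curv2.IsWeakAssPoint M x ↔ Curv2.IsAssPoint M x := by
  have key : ∀ y : M.presheaf.stalk x,
      Ideal.radical ((⊥ : Submodule (X.presheaf.stalk x) (M.presheaf.stalk x)).colon {y}) =
        Ideal.radical (LinearMap.ker (LinearMap.toSpanSingleton (X.presheaf.stalk x) (M.presheaf.stalk x) y)) := fun y => by
    congr 1
    ext a
    rw [Submodule.mem_colon_singleton, Submodule.mem_bot, LinearMap.mem_ker, LinearMap.toSpanSingleton_apply]
  exact ⟨fun ⟨y, hy⟩ => ⟨(IsLocalRing.maximalIdeal.isMaximal _).isPrime, y, ((key y).trans hy).symm⟩,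
    fun ⟨_, y, hy⟩ => ⟨y, (key y).symm.trans hy.symm⟩⟩

variable {X S : Scheme.{u}} (f : X ⟶ S) (M : X.Modules)

lemma comap_appLE_pr {W : S.Opens} (hW : IsAffineOpen W) {V : X.Opens} (hV : IsAffineOpen V)
    (e : V ≤ f ⁻¹ᵁ W) {x : X} (hx : x ∈ V) :
    (pr hV hx).comap (f.appLE W V e).hom = pr hW (e hx) := by
  rw [← under_maximalIdeal hV hx, ← under_maximalIdeal hW (e hx), Ideal.comap_comap,
    ← IsLocalRing.maximalIdeal_comap (f.stalkMap x).hom, Ideal.comap_comap]
  congr 1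
  rw [← CommRingCat.hom_comp, ← CommRingCat.hom_comp, Scheme.Hom.germ_stalkMap,
    Scheme.Hom.appLE, Category.assoc, X.presheaf.germ_res]

variable [Coh.IsQCoh M]

/-- Weakly associated points of a direct image come from weakly associated points. -/
theorem exists_isWeakAssPoint_of_push [QuasiCompact f] [QuasiSeparated f] {s : S}
    (hs : Curv2.IsWeakAssPoint ((Coh.push f).obj M) s) : ∃ x : X, f x = s ∧ Curv2.IsWeakAssPoint M x := by
  haveI := QCohLib.isQCoh_pushforward M f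
  obtain ⟨_, ⟨W : S.Opens, (hW : IsAffineOpen W), rfl⟩, hsW, -⟩ :=
    S.isBasis_affineOpens.exists_subset_of_mem_open (Set.mem_univ s) isOpen_univ
  obtain ⟨t, ht⟩ := (isWeakAssPoint_iff hW hsW).mp hs
  let t' : Γ(M, f ⁻¹ᵁ W) := t
  obtain ⟨ι, _, V, hV, hle, hcov⟩ := QCohLib.exists_finite_affine_cover (f.isCompact_preimage hW.isCompact)
  let ti : ∀ i, Γ(M, V i) := fun i => M.presheaf.map (homOfLE (hle i)).op t'
  let J : ∀ i, Ideal Γ(X, V i) := fun i => (Submodule.span Γ(X, V i) {ti i}).annihilator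
  let φ : ∀ i, Γ(S, W) →+* Γ(X, V i) := fun i => (f.appLE W (V i) (hle i)).hom
  have hsmul : ∀ (i : ι) (a : Γ(S, W)), φ i a • ti i = M.presheaf.map (homOfLE (hle i)).op (f.app W a • t') :=
    fun i a => (M.map_smul (homOfLE (hle i)) (f.app W a) t').symm
  have hJ : ∀ a : Γ(S, W), a • t = 0 ↔ ∀ i, φ i a ∈ J i := fun a => by
    simp only [J, Submodule.mem_annihilator_span_singleton, hsmul]
    refine ⟨fun h i => ?_, fun h => ?_⟩
    · rw [show f.app W a • t' = 0 from h, map_zero]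
    · refine QCohLib.eq_of_cover M hle hcov (f.app W a • t') 0 fun i => ?_
      rw [h i, map_zero]
  obtain ⟨i, hi⟩ : ∃ i, (J i).comap (φ i) ≤ pr hW hsW := by
    obtain ⟨i, -, hi⟩ := (Ideal.IsPrime.inf_le' (s := Finset.univ) (f := fun i => (J i).comap (φ i)) inferInstance).mp
      (fun a ha => ht.le a ((hJ a).mpr fun i => Finset.inf_le (f := fun i => (J i).comap (φ i)) (Finset.mem_univ i) ha))
    exact ⟨i, hi⟩
  have hmin : pr hW hsW ∈ ((J i).comap (φ i)).minimalPrimes := by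
    refine ⟨⟨inferInstance, hi⟩, fun q hq hqle => ?_⟩
    have hP := ((mem_minimalPrimes_iff (pr hW hsW) t).mpr ⟨inferInstance, ht⟩)
    exact hP.2 ⟨hq.1, fun a ha => hq.2 ((hJ a).mp ((Submodule.mem_annihilator_span_singleton t a).mp ha) i)⟩ hqle
  obtain ⟨q, hq, hJq, hqc⟩ := Ideal.exists_comap_eq_of_mem_minimalPrimes (I := J i) (φ i) _ hmin
  obtain ⟨Q, hQ, hQq⟩ := Ideal.exists_minimalPrimes_le hJq
  haveI := hQ.1.1
  have hQc : Q.comap (φ i) = pr hW hsW :=
    le_antisymm ((Ideal.comap_mono hQq).trans hqc.le) (hmin.2 ⟨inferInstance, Ideal.comap_mono hQ.1.2⟩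
      ((Ideal.comap_mono hQq).trans hqc.le))
  let Q' : PrimeSpectrum Γ(X, V i) := ⟨Q, inferInstance⟩
  obtain ⟨-, hw⟩ := (mem_minimalPrimes_iff Q (ti i)).mp hQ
  refine ⟨pt (hV i) Q', ?_, (isWeakAssPoint_iff (hV i) (pt_mem (hV i) Q')).mpr ⟨ti i, by rw [pr_pt]; exact hw⟩⟩
  have h1 := comap_appLE_pr f hW (hV i) (hle i) (pt_mem (hV i) Q')
  rw [pr_pt] at h1
  have h2 : hW.primeIdealOf ⟨f (pt (hV i) Q'), hle i (pt_mem (hV i) Q')⟩ = hW.primeIdealOf ⟨s, hsW⟩ :=
    PrimeSpectrum.ext (h1.symm.trans hQc)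
  rw [← pt_primeIdealOf hW (hle i (pt_mem (hV i) Q')), h2, pt_primeIdealOf]

/-- Associated points push forward along maps affine over a neighbourhood. -/
theorem isWeakAssPoint_push [QuasiCompact f] [QuasiSeparated f] [IsLocallyNoetherian X] {W : S.Opens}
    (hW : IsAffineOpen W) (hV : IsAffineOpen (f ⁻¹ᵁ W)) {x : X} (hxW : f x ∈ W) (hx : Curv2.IsWeakAssPoint M x) :
    Curv2.IsWeakAssPoint ((Coh.push f).obj M) (f x) := by
  haveI := QCohLib.isQCoh_pushforward M f
  haveI := QCohLib.isNoetherianRing_section hV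
  have hxV : x ∈ f ⁻¹ᵁ W := hxW
  obtain ⟨hp, t, ht⟩ := isAssociatedPrime_iff.mp
    ((isAssPoint_iff hV hxV).mp ((isWeakAssPoint_iff_isAssPoint M x).mp hx))
  refine (isWeakAssPoint_iff hW hxW).mpr ⟨t, ?_⟩
  have hc := comap_appLE_pr f hW hV le_rfl hxV
  have key : ∀ a : Γ(S, W), a ∈ pr hW hxW ↔ f.app W a • t = 0 := fun a => by
    rw [← hc, Ideal.mem_comap, Scheme.Hom.appLE_eq_app, ht, Submodule.mem_colon_singleton, Submodule.mem_bot]
  refine ⟨fun a ha => (key a).mpr ha, fun a ha => ⟨1, fun h1 => (inferInstance : (pr hW hxW).IsPrime).ne_top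
    ((Ideal.eq_top_iff_one _).mpr h1), 1, ?_⟩⟩
  rw [one_mul, pow_one]
  exact (key a).mp ha

theorem ass_push_eq [QuasiCompact f] [QuasiSeparated f] [IsLocallyNoetherian X]
    (hf : ∀ x : X, ∃ W : S.Opens, IsAffineOpen W ∧ f x ∈ W ∧ IsAffineOpen (f ⁻¹ᵁ W)) :
    {s : S | Curv2.IsWeakAssPoint ((Coh.push f).obj M) s} = f '' {x : X | Curv2.IsWeakAssPoint M x} := by
  ext s
  refine ⟨fun hs => ?_, ?_⟩
  · obtain ⟨x, hx, hx'⟩ := exists_isWeakAssPoint_of_push f M hs
    exact ⟨x, hx', hx⟩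
  · rintro ⟨x, hx, rfl⟩
    obtain ⟨W, hW, hxW, hV⟩ := hf x
    exact isWeakAssPoint_push f M hW hV hxW hx

theorem ass_eq_weak {X : Scheme.{u}} (M : X.Modules) :
    {x : X | Curv2.IsAssPoint M x} = {x : X | Curv2.IsWeakAssPoint M x} :=
  Set.ext fun x => (isWeakAssPoint_iff_isAssPoint M x).symm

end Groth.Agent.AssLib
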