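import Groth.Agent.AssLib.Structure
import Groth.Agent.AssLib.Push
import Groth.Agent.CAlgBasics.Depth
import Groth.Agent.PullbackMod.OpenLocus

/-! Isomorphisms detected at associated points. -/

set_option autoImplicit false
set_option backward.isDefEq.respectTransparency false
set_option linter.style.haveILetI false

universe u

open CategoryTheory AlgebraicGeometry TopologicalSpace

namespace Groth.Agent.AssLib

variable {X : Scheme.{u}} {F G : X.Modules} [Coh.IsQCoh F] [Coh.IsQCoh G] (φ : F ⟶ G)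

omit [Coh.IsQCoh G] in
/-- A map injective at weakly associated points is injective on sections. -/
theorem app_injective_of (h : ∀ x : X, Function.Injective (PullbackMod.stalkLin φ x) ∨ ¬ Curv2.IsWeakAssPoint F x)
    (V : X.Opens) : Function.Injective (φ.app V) := by
  refine (injective_iff_map_eq_zero _).mpr fun s hs => eq_zero_of_germ F s fun x hx => by_contra fun hne => ?_
  obtain ⟨y, hy, -, hya, hys⟩ := exists_isWeakAssPoint s hx hne
  rcases h y with hinj | hn
  · refine hys (hinj ?_)
    rw [map_zero]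
    refine (PullbackMod.stalkLin_germ φ y hy s).trans ?_
    rw [hs, map_zero]
  · exact hn hya

omit [Coh.IsQCoh F] [Coh.IsQCoh G] in
/-- Isomorphisms from bijective stalk maps. -/
theorem isIso_of_stalk (h : ∀ x : X, Function.Bijective (PullbackMod.stalkLin φ x)) : IsIso φ := by
  haveI : ∀ U : (TopologicalSpace.Opens X)ᵒᵖ, IsIso (φ.mapPresheaf.app U) := by
    intro U
    haveI : ∀ x : X, IsIso ((TopCat.Presheaf.stalkFunctor AddCommGrpCat.{u} x).map φ.mapPresheaf) := fun x =>
      (ConcreteCategory.isIso_iff_bijective _).mpr (h x)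
    exact TopCat.Presheaf.app_isIso_of_stalkFunctor_map_iso (F := ⟨F.presheaf, F.isSheaf⟩) (G := ⟨G.presheaf, G.isSheaf⟩)
      ⟨φ.mapPresheaf⟩ U.unop
  exact Scheme.Modules.Hom.isIso_iff_isIso_app.mpr fun U => this (Opposite.op U)

omit [Coh.IsQCoh F] [Coh.IsQCoh G] in
/-- A nonzero stalk element killed by the maximal ideal gives an associated point. -/
theorem isAssPoint_of_kill {y : X} (z : G.presheaf.stalk y) (hz : z ≠ 0)
    (hm : ∀ a ∈ IsLocalRing.maximalIdeal (X.presheaf.stalk y), a • z = 0) : Curv2.IsAssPoint G y := by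
  refine ⟨(IsLocalRing.maximalIdeal.isMaximal _).isPrime, z,
    (IsLocalRing.maximalIdeal.isMaximal _).eq_of_le (fun htop => hz ?_) fun a ha => Ideal.le_radical ?_⟩
  · obtain ⟨n, hn⟩ := htop.ge (Submodule.mem_top (x := (1 : X.presheaf.stalk y)))
    rwa [one_pow, Submodule.mem_colon_singleton, one_smul, Submodule.mem_bot] at hn
  · rw [Submodule.mem_colon_singleton, Submodule.mem_bot]
    exact hm a ha

variable [IsLocallyNoetherian X]

omit [Coh.IsQCoh G] [IsLocallyNoetherian X] in
/-- The associated prime of the cokernel on an affine open as a point with a germ outside the image. -/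
theorem smul_germ_mem_range_imp {W : X.Opens} (hW : IsAffineOpen W) {y : X} (hy : y ∈ W) [Coh.IsQCoh G]
    (g : Γ(G, W)) (hg : ∀ a, a ∈ pr hW hy ↔ ∃ m, φ.app W m = a • g) :
    (∀ f, PullbackMod.stalkLin φ y f ≠ G.presheaf.germ W y hy g) ∧
      ∀ b ∈ IsLocalRing.maximalIdeal (X.presheaf.stalk y),
        ∃ w, PullbackMod.stalkLin φ y w = b • G.presheaf.germ W y hy g := by
  letI : Algebra Γ(X, W) (X.presheaf.stalk y) := TopCat.Presheaf.algebra_section_stalk X.presheaf ⟨y, hy⟩
  haveI := hW.isLocalization_stalk ⟨y, hy⟩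
  constructor
  · intro f hf
    letI := Module.compHom (F.presheaf.stalk y) (X.presheaf.germ W y hy).hom
    haveI := FlatLocus.isLocalizedModule_germL F hW y hy
    obtain ⟨⟨m, s⟩, hms⟩ := IsLocalizedModule.surj (pr hW hy).primeCompl (FlatLocus.germL F W y hy) f
    have h1 : X.presheaf.germ W y hy (s : Γ(X, W)) • f = F.presheaf.germ W y hy m := hms
    have h2 : G.presheaf.germ W y hy ((s : Γ(X, W)) • g - φ.app W m) = 0 := by
      rw [map_sub, sub_eq_zero]
      refine (PresheafOfModules.germ_smul (R := X.presheaf) G.val y W hy _ g).trans ?_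
      rw [← PullbackMod.stalkLin_germ φ y hy m, ← h1, map_smul, hf]
      rfl
    obtain ⟨t, ht, h0⟩ := (germ_eq_zero_iff hW hy _).mp h2
    refine (Ideal.IsPrime.mem_or_mem inferInstance ((hg (t * (s : Γ(X, W)))).mpr ⟨t • m, ?_⟩)).elim ht s.2
    rw [smul_sub, sub_eq_zero, smul_smul] at h0
    rw [h0]
    exact (FlatLocus.appL φ W).map_smul t m
  · intro b hb
    obtain ⟨a, s, rfl⟩ := IsLocalization.exists_mk'_eq (pr hW hy).primeCompl b
    have ha : a ∈ pr hW hy := (IsLocalization.AtPrime.mk'_mem_maximal_iff (X.presheaf.stalk y) (pr hW hy) a s).mp hb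
    obtain ⟨m, hm⟩ := (hg a).mp ha
    refine ⟨IsLocalization.mk' (X.presheaf.stalk y) 1 s • F.presheaf.germ W y hy m, ?_⟩
    rw [map_smul, IsLocalization.mk'_eq_mul_mk'_one (S := X.presheaf.stalk y) a s, mul_comm, mul_smul]
    refine congrArg (_ • ·) ((PullbackMod.stalkLin_germ φ y hy m).trans ?_)
    exact (congrArg (G.presheaf.germ W y hy) hm).trans (PresheafOfModules.germ_smul (R := X.presheaf) G.val y W hy a g)

/-- An isomorphism is detected where the depth is less than two or at associated points of the target. -/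
theorem isIso_of_depth (hF : Coh.IsCoh F)
    (h : ∀ x : X, Function.Bijective (PullbackMod.stalkLin φ x) ∨
      ((2 : ℕ∞) ≤ LocCoh.depth (X.presheaf.stalk x) (F.presheaf.stalk x) ∧ ¬ Curv2.IsAssPoint G x)) :
    IsIso φ := by
  haveI : ∀ x : X, Module.Finite (X.presheaf.stalk x) (F.presheaf.stalk x) := fun x =>
    PullbackMod.finite_stalk_of_isFT hF.2 x
  have hsock : ∀ x : X, (2 : ℕ∞) ≤ LocCoh.depth (X.presheaf.stalk x) (F.presheaf.stalk x) →
      ¬ Curv2.IsWeakAssPoint F x := fun x hx hw => by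
    obtain ⟨hsz, -⟩ := CAlgBasics.two_le_depth_iff.mp hx
    obtain ⟨hp, t, ht⟩ := isAssociatedPrime_iff.mp ((isWeakAssPoint_iff_isAssPoint F x).mp hw)
    have ht0 : t = 0 := hsz t fun a ha => by
      rw [ht, Submodule.mem_colon_singleton, Submodule.mem_bot] at ha
      exact ha
    refine hp.ne_top (ht.trans (eq_top_iff.mpr fun a _ => ?_))
    rw [Submodule.mem_colon_singleton, ht0, smul_zero, Submodule.mem_bot]
  have hinjV := app_injective_of φ fun x => (h x).imp (fun hb => hb.1) fun hd => hsock x hd.1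
  have hinj : ∀ x : X, Function.Injective (PullbackMod.stalkLin φ x) := fun x => by
    refine (injective_iff_map_eq_zero _).mpr fun t ht => ?_
    obtain ⟨V, hxV, s, rfl⟩ := TopCat.Presheaf.exists_germ_eq F.presheaf t
    have h1 := (PullbackMod.stalkLin_germ φ x hxV s).symm.trans ht
    obtain ⟨N, hxN, i₁, i₂, hN⟩ := TopCat.Presheaf.germ_eq G.presheaf x hxV hxV (φ.app V s) 0 (h1.trans (map_zero _).symm)
    rw [← F.presheaf.germ_res_apply i₁ x hxN s,
      hinjV N (a₁ := F.presheaf.map i₁.op s) (a₂ := 0) (by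
        rw [map_zero]
        refine Eq.trans ?_ (hN.trans (map_zero _))
        exact ConcreteCategory.congr_hom (φ.mapPresheaf.naturality i₁.op) s), map_zero]
  refine isIso_of_stalk φ fun x => ⟨hinj x, ?_⟩
  obtain ⟨W, hW, hxW, -⟩ := exists_affine_mem x (U := ⊤) trivial
  haveI := QCohLib.isNoetherianRing_section hW
  let ψ : Γ(F, W) →ₗ[Γ(X, W)] Γ(G, W) := FlatLocus.appL φ W
  rw [(PullbackMod.stalk_criteria φ hW x hxW).2.1]
  intro q
  by_contra hc
  push Not at hc
  let qb : Γ(G, W) ⧸ LinearMap.range ψ := Submodule.Quotient.mk q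
  have hqa : ∀ a, a ∈ (Submodule.span Γ(X, W) {qb}).annihilator ↔ ∃ m, ψ m = a • q := fun a => by
    rw [Submodule.mem_annihilator_span_singleton, ← Submodule.Quotient.mk_smul, Submodule.Quotient.mk_eq_zero]
    rfl
  have hI : (Submodule.span Γ(X, W) {qb}).annihilator ≤ pr hW hxW := fun s hs => by
    by_contra hsP
    obtain ⟨m, hm⟩ := (hqa s).mp hs
    exact hc s ((PullbackMod.primeCompl_primeIdealOf hW x hxW s).mp hsP) m hm
  obtain ⟨P, hP, -⟩ := Ideal.exists_minimalPrimes_le hI
  haveI := hP.1.1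
  obtain ⟨-, z, hz⟩ := isAssociatedPrime_iff.mp
    ((Module.associatedPrimes.minimalPrimes_annihilator_subset_associatedPrimes Γ(X, W)
      (Submodule.span Γ(X, W) {qb}) hP).map_of_injective
      (f := (Submodule.span Γ(X, W) {qb}).subtype) Subtype.val_injective)
  obtain ⟨g, rfl⟩ := Submodule.Quotient.mk_surjective _ z
  have hPg : ∀ a, a ∈ P ↔ ∃ m, ψ m = a • g := fun a => by
    rw [hz, Submodule.mem_colon_singleton, Submodule.mem_bot, ← Submodule.Quotient.mk_smul, Submodule.Quotient.mk_eq_zero]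
    rfl
  let P' : PrimeSpectrum Γ(X, W) := ⟨P, inferInstance⟩
  have hy : pt hW P' ∈ W := pt_mem hW P'
  generalize hyd : pt hW P' = y at hy
  have hpy : pr hW hy = P := by
    subst hyd
    exact pr_pt hW P'
  obtain ⟨hout, hmem⟩ := smul_germ_mem_range_imp φ hW hy g fun a => by rw [hpy]; exact hPg a
  generalize G.presheaf.germ W y hy g = gy at hout hmem
  have hns : ¬ Function.Surjective (PullbackMod.stalkLin φ y) := fun hs => by
    obtain ⟨f, hf⟩ := hs gy
    exact hout f hf
  obtain ⟨hd, hG⟩ := (h y).resolve_left fun hb => hns hb.2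
  obtain ⟨hsz, hmod⟩ := CAlgBasics.two_le_depth_iff.mp hd
  obtain ⟨r, hr, hreg⟩ : ∃ r ∈ IsLocalRing.maximalIdeal (X.presheaf.stalk y), IsSMulRegular (F.presheaf.stalk y) r := by
    haveI : Nontrivial (F.presheaf.stalk y) := by
      refine (subsingleton_or_nontrivial _).resolve_left fun hsub => hG ?_
      refine isAssPoint_of_kill gy (fun h0 => hout 0 (by rw [map_zero, h0])) fun b hb => ?_
      obtain ⟨w, hw⟩ := hmem b hb
      rw [← hw, Subsingleton.elim w 0, map_zero]
    exact hsz.exists_isSMulRegular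
  obtain ⟨f, hf⟩ := hmem r hr
  obtain ⟨f', hf'⟩ := hmod r hr hreg f fun a ha => by
    obtain ⟨w, hw⟩ := hmem a ha
    exact ⟨w, hinj y (by rw [map_smul, map_smul, hf, hw, smul_comm])⟩
  refine hG (isAssPoint_of_kill (gy - PullbackMod.stalkLin φ y f')
    (fun h0 => hout f' (sub_eq_zero.mp h0).symm) fun a ha => ?_)
  obtain ⟨w, hw⟩ := hmem a ha
  have h0 : w - a • f' = 0 := by
    refine hreg.right_eq_zero_of_smul (hinj y ?_)
    rw [smul_sub, map_sub, map_zero, map_smul, hw, smul_comm r a f', ← hf', map_smul _ a f, hf, smul_comm r a gy,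
      sub_self]
  rw [smul_sub, ← hw, ← map_smul, ← map_sub, h0, map_zero]

end Groth.Agent.AssLib
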