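import Groth.Agent.AssLib.Basic
import Groth.Agent.QCohLib.Coherent
import Groth.Agent.InjHullLib.Matlis

/-! Associated points on locally Noetherian schemes. -/

set_option autoImplicit false
set_option backward.isDefEq.respectTransparency false
set_option linter.style.haveILetI false

universe u

open CategoryTheory AlgebraicGeometry TopologicalSpace

namespace Groth.Agent.AssLib

variable {X : Scheme.{u}} [IsLocallyNoetherian X] {M : X.Modules}

lemma exists_affine_mem (x : X) {U : X.Opens} (hx : x ∈ U) :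
    ∃ W : X.Opens, IsAffineOpen W ∧ x ∈ W ∧ W ≤ U := by
  obtain ⟨_, ⟨W : X.Opens, (hW : IsAffineOpen W), rfl⟩, hxW, hWU⟩ :=
    X.isBasis_affineOpens.exists_subset_of_mem_open (a := x) (u := (U : Set X)) hx U.2
  exact ⟨W, hW, hxW, hWU⟩

omit [IsLocallyNoetherian X] in
lemma nontrivial_of_isAssPoint {x : X} (h : Curv2.IsAssPoint M x) : Nontrivial ↑(M.presheaf.stalk x) := by
  by_contra hn
  haveI := not_nontrivial_iff_subsingleton.mp hn
  exact not_isAssociatedPrime_of_subsingleton h

/-- A nonzero germ is detected at an associated point generising the given one. -/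
theorem exists_isAssPoint [Coh.IsQCoh M] {V : X.Opens} (s : Γ(M, V)) {x : X} (hx : x ∈ V)
    (hs : M.presheaf.germ V x hx s ≠ 0) :
    ∃ (y : X) (hy : y ∈ V), y ⤳ x ∧ Curv2.IsAssPoint M y ∧ M.presheaf.germ V y hy s ≠ 0 := by
  obtain ⟨W, hW, hxW, hWV⟩ := exists_affine_mem x hx
  haveI := QCohLib.isNoetherianRing_section hW
  letI := Module.compHom (M.presheaf.stalk x) (X.presheaf.germ W x hxW).hom
  obtain ⟨g, hg⟩ := GenFree.exists_isLocalizedModule_germ M hW x hxW
  haveI := hg
  letI : Algebra Γ(X, W) (X.presheaf.stalk x) := TopCat.Presheaf.algebra_section_stalk X.presheaf ⟨x, hxW⟩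
  haveI := hW.isLocalization_stalk ⟨x, hxW⟩
  haveI : IsScalarTower Γ(X, W) (X.presheaf.stalk x) (M.presheaf.stalk x) := .of_algebraMap_smul fun _ _ => rfl
  haveI : IsNoetherianRing (X.presheaf.stalk x) :=
    IsLocalization.isNoetherianRing (pr hW hxW).primeCompl (X.presheaf.stalk x) inferInstance
  obtain ⟨q, hq, hle⟩ := exists_le_isAssociatedPrime_of_isNoetherianRing (X.presheaf.stalk x)
    (x := M.presheaf.germ V x hx s) hs
  haveI := hq.isPrime
  have hP := Module.associatedPrimes.comap_mem_associatedPrimes_of_mem_associatedPrimes_of_isLocalizedModule_of_fg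
    (pr hW hxW).primeCompl g q hq (IsNoetherian.noetherian _)
  let P : PrimeSpectrum Γ(X, W) := ⟨q.comap (algebraMap Γ(X, W) (X.presheaf.stalk x)), inferInstance⟩
  have hPx : P.asIdeal ≤ pr hW hxW :=
    (Ideal.comap_mono (IsLocalRing.le_maximalIdeal hq.isPrime.ne_top)).trans (under_maximalIdeal hW hxW).le
  refine ⟨pt hW P, hWV (pt_mem hW P), (specializes_iff hW hxW (pt_mem hW P)).mpr (by rwa [pr_pt]),
    isAssPoint_of_mem hW (pt_mem hW P) (by rw [pr_pt]; exact hP), fun h0 => ?_⟩
  letI := Module.compHom (M.presheaf.stalk (pt hW P)) (X.presheaf.germ W (pt hW P) (pt_mem hW P)).hom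
  let s' : Γ(M, W) := M.presheaf.map (homOfLE hWV).op s
  have h0' : M.presheaf.germ W (pt hW P) (pt_mem hW P) s' = 0 := by
    rw [show M.presheaf.germ W (pt hW P) (pt_mem hW P) s' = M.presheaf.germ V (pt hW P) (hWV (pt_mem hW P)) s from
      M.presheaf.germ_res_apply _ _ _ s]
    exact h0
  obtain ⟨a, haP, ha⟩ := (germ_eq_zero_iff hW (pt_mem hW P) s').mp h0'
  rw [pr_pt] at haP
  refine haP (hle ?_)
  rw [Submodule.mem_colon_singleton, Submodule.mem_bot]
  have h2 := congrArg (M.presheaf.germ W x hxW) ha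
  rw [map_zero] at h2
  refine Eq.trans ?_ h2
  rw [← show M.presheaf.germ W x hxW s' = M.presheaf.germ V x hx s from M.presheaf.germ_res_apply _ _ _ s]
  exact (PresheafOfModules.germ_smul (R := X.presheaf) M.val x W hxW a s').symm

theorem exists_isAssPoint_of_nontrivial [Coh.IsQCoh M] {x : X} (h : Nontrivial ↑(M.presheaf.stalk x)) :
    ∃ y : X, y ⤳ x ∧ Curv2.IsAssPoint M y := by
  obtain ⟨t, ht⟩ := exists_ne (0 : M.presheaf.stalk x)
  obtain ⟨V, hxV, s, rfl⟩ := TopCat.Presheaf.exists_germ_eq M.presheaf t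
  obtain ⟨y, -, hyx, hy, -⟩ := exists_isAssPoint s hxV ht
  exact ⟨y, hyx, hy⟩

/-- Sections vanish if their germs at associated points vanish. -/
theorem eq_zero_of_germ_ass [Coh.IsQCoh M] {V : X.Opens} (s : Γ(M, V))
    (h : ∀ (x : X) (hx : x ∈ V), Curv2.IsAssPoint M x → M.presheaf.germ V x hx s = 0) : s = 0 :=
  eq_zero_of_germ M s fun x hx => by_contra fun hne => by
    obtain ⟨y, hy, -, hya, hyne⟩ := exists_isAssPoint s hx hne
    exact hyne (h y hy hya)

/-- A minimal point of the support is associated. -/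
theorem isAssPoint_of_minimal [Coh.IsQCoh M] {x : X} (hx : Nontrivial ↑(M.presheaf.stalk x))
    (hmin : ∀ y : X, Nontrivial ↑(M.presheaf.stalk y) → y ⤳ x → y = x) : Curv2.IsAssPoint M x := by
  obtain ⟨y, hyx, hy⟩ := exists_isAssPoint_of_nontrivial hx
  exact hmin y (nontrivial_of_isAssPoint hy) hyx ▸ hy

theorem maximal_iff_minimal [Coh.IsQCoh M] (x : X) :
    (Curv2.IsAssPoint M x ∧ ∀ y : X, Curv2.IsAssPoint M y → y ⤳ x → y = x) ↔
      (Nontrivial ↑(M.presheaf.stalk x) ∧ ∀ y : X, Nontrivial ↑(M.presheaf.stalk y) → y ⤳ x → y = x) := by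
  refine ⟨fun ⟨hx, hmax⟩ => ⟨nontrivial_of_isAssPoint hx, fun y hy hyx => ?_⟩,
    fun ⟨hx, hmin⟩ => ⟨isAssPoint_of_minimal hx hmin, fun y hy => hmin y (nontrivial_of_isAssPoint hy)⟩⟩
  obtain ⟨z, hzy, hz⟩ := exists_isAssPoint_of_nontrivial hy
  obtain rfl := hmax z hz (hzy.trans hyx)
  exact (hyx.antisymm hzy).eq

/-- The associated points in an affine open as associated primes. -/
theorem finite_ass_affine (hM : Coh.IsCoh M) {W : X.Opens} (hW : IsAffineOpen W) :
    {x : X | x ∈ W ∧ Curv2.IsAssPoint M x}.Finite := by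
  haveI := hM.1
  haveI := QCohLib.isNoetherianRing_section hW
  haveI := QCohLib.finite_sections_of_isCoh hM hW
  refine ((associatedPrimes.finite Γ(X, W) Γ(M, W)).preimage (f := fun q : PrimeSpectrum Γ(X, W) => q.asIdeal)
    (fun a _ b _ h => PrimeSpectrum.ext h) |>.image (pt hW)).subset ?_
  rintro x ⟨hxW, hx⟩
  exact ⟨hW.primeIdealOf ⟨x, hxW⟩, (isAssPoint_iff hW hxW).mp hx, pt_primeIdealOf hW hxW⟩

/-- A point minimal among associated points has stalk killed by a power of the maximal ideal. -/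
theorem exists_pow_kill (hM : Coh.IsCoh M) {x : X} (h : ∀ y : X, Curv2.IsAssPoint M y → y ⤳ x → y = x) :
    ∃ k : ℕ, ∀ a ∈ IsLocalRing.maximalIdeal (X.presheaf.stalk x) ^ k, ∀ m : M.presheaf.stalk x, a • m = 0 := by
  haveI := hM.1
  obtain ⟨W, hW, hxW, -⟩ := exists_affine_mem x (U := ⊤) trivial
  haveI := QCohLib.isNoetherianRing_section hW
  haveI := QCohLib.finite_sections_of_isCoh hM hW
  letI := Module.compHom (M.presheaf.stalk x) (X.presheaf.germ W x hxW).hom
  obtain ⟨g, hg⟩ := GenFree.exists_isLocalizedModule_germ M hW x hxW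
  haveI := hg
  letI : Algebra Γ(X, W) (X.presheaf.stalk x) := TopCat.Presheaf.algebra_section_stalk X.presheaf ⟨x, hxW⟩
  haveI := hW.isLocalization_stalk ⟨x, hxW⟩
  haveI : IsScalarTower Γ(X, W) (X.presheaf.stalk x) (M.presheaf.stalk x) := .of_algebraMap_smul fun _ _ => rfl
  haveI : IsNoetherianRing (X.presheaf.stalk x) :=
    IsLocalization.isNoetherianRing (pr hW hxW).primeCompl (X.presheaf.stalk x) inferInstance
  haveI : Module.Finite (X.presheaf.stalk x) (M.presheaf.stalk x) :=
    Module.Finite.of_isLocalizedModule (pr hW hxW).primeCompl g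
  have hrad : IsLocalRing.maximalIdeal (X.presheaf.stalk x) ≤
      (Module.annihilator (X.presheaf.stalk x) (M.presheaf.stalk x)).radical := by
    rw [← Ideal.sInf_minimalPrimes]
    refine le_sInf fun q hq => ?_
    have hq' := Module.associatedPrimes.minimalPrimes_annihilator_subset_associatedPrimes _ _ hq
    haveI := hq'.isPrime
    have hP := Module.associatedPrimes.comap_mem_associatedPrimes_of_mem_associatedPrimes_of_isLocalizedModule_of_fg
      (pr hW hxW).primeCompl g q hq' (IsNoetherian.noetherian _)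
    let P : PrimeSpectrum Γ(X, W) := ⟨q.comap (algebraMap Γ(X, W) (X.presheaf.stalk x)), inferInstance⟩
    have hPx : P.asIdeal ≤ pr hW hxW :=
      (Ideal.comap_mono (IsLocalRing.le_maximalIdeal hq'.isPrime.ne_top)).trans (under_maximalIdeal hW hxW).le
    have hyx : pt hW P = x := h _ (isAssPoint_of_mem hW (pt_mem hW P) (by rw [pr_pt]; exact hP))
      ((specializes_iff hW hxW (pt_mem hW P)).mpr (by rwa [pr_pt]))
    have hPe : P.asIdeal = pr hW hxW := by
      rw [← pr_pt hW P]
      simp only [hyx]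
    rw [← IsLocalization.map_under (pr hW hxW).primeCompl (X.presheaf.stalk x) q,
      ← IsLocalization.AtPrime.map_eq_maximalIdeal (pr hW hxW) (X.presheaf.stalk x)]
    exact Ideal.map_mono hPe.ge
  obtain ⟨k, hk⟩ := Ideal.exists_pow_le_of_le_radical_of_fg hrad (IsNoetherian.noetherian _)
  exact ⟨k, fun a ha m => Module.mem_annihilator.mp (hk ha) m⟩

/-- Points of finite length stalk are the minimal points of the support. -/
theorem isFiniteLength_iff_minimal (hM : Coh.IsCoh M) {x : X} :
    IsFiniteLength ↑(X.presheaf.stalk x) ↑(M.presheaf.stalk x) ↔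
      ∀ y : X, Curv2.IsAssPoint M y → y ⤳ x → y = x := by
  haveI := hM.1
  obtain ⟨W, hW, hxW, -⟩ := exists_affine_mem x (U := ⊤) trivial
  haveI := QCohLib.isNoetherianRing_section hW
  haveI := QCohLib.finite_sections_of_isCoh hM hW
  letI := Module.compHom (M.presheaf.stalk x) (X.presheaf.germ W x hxW).hom
  obtain ⟨g, hg⟩ := GenFree.exists_isLocalizedModule_germ M hW x hxW
  haveI := hg
  letI : Algebra Γ(X, W) (X.presheaf.stalk x) := TopCat.Presheaf.algebra_section_stalk X.presheaf ⟨x, hxW⟩
  haveI := hW.isLocalization_stalk ⟨x, hxW⟩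
  haveI : IsScalarTower Γ(X, W) (X.presheaf.stalk x) (M.presheaf.stalk x) := .of_algebraMap_smul fun _ _ => rfl
  haveI : IsNoetherianRing (X.presheaf.stalk x) :=
    IsLocalization.isNoetherianRing (pr hW hxW).primeCompl (X.presheaf.stalk x) inferInstance
  haveI : Module.Finite (X.presheaf.stalk x) (M.presheaf.stalk x) :=
    Module.Finite.of_isLocalizedModule (pr hW hxW).primeCompl g
  constructor
  · intro hfl y hy hyx
    have hyW := mem_of_specializes hyx hxW
    have hP := (isAssPoint_iff hW hyW).mp hy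
    have hle := (specializes_iff hW hxW hyW).mp hyx
    have hd : Disjoint ((pr hW hxW).primeCompl : Set Γ(X, W)) (pr hW hyW : Set Γ(X, W)) :=
      Set.disjoint_left.mpr fun a ha ha' => ha (hle ha')
    have hc : ((pr hW hyW).map (algebraMap Γ(X, W) (X.presheaf.stalk x))).comap _ = pr hW hyW :=
      IsLocalization.under_map_of_isPrime_disjoint (pr hW hxW).primeCompl (X.presheaf.stalk x) inferInstance hd
    have hq := Module.associatedPrimes.mem_associatedPrimes_of_comap_mem_associatedPrimes_of_isLocalizedModule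
      (pr hW hxW).primeCompl g ((pr hW hyW).map (algebraMap Γ(X, W) (X.presheaf.stalk x))) (hc.symm ▸ hP)
    haveI := hq.isPrime
    obtain ⟨-, φ, hφ⟩ := (isAssociatedPrime_iff_exists_injective_linearMap _ _).1 hq
    haveI := (isFiniteLength_iff_isNoetherian_isArtinian.mp hfl).2
    haveI : IsArtinian (X.presheaf.stalk x) (X.presheaf.stalk x ⧸ (pr hW hyW).map (algebraMap Γ(X, W) (X.presheaf.stalk x))) :=
      isArtinian_of_injective φ hφ
    haveI : IsArtinianRing (X.presheaf.stalk x ⧸ (pr hW hyW).map (algebraMap Γ(X, W) (X.presheaf.stalk x))) :=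
      isArtinian_of_tower (X.presheaf.stalk x) ‹_›
    have hmax := IsLocalRing.eq_maximalIdeal
      (Ideal.Quotient.maximal_of_isField _ (IsArtinianRing.isField_of_isDomain _) :
        ((pr hW hyW).map (algebraMap Γ(X, W) (X.presheaf.stalk x))).IsMaximal)
    rw [hmax] at hc
    have heq : pr hW hyW = pr hW hxW := hc.symm.trans (under_maximalIdeal hW hxW)
    exact (hyx.antisymm ((specializes_iff hW hyW hxW).mpr heq.ge)).eq
  · intro h
    obtain ⟨k, hk⟩ := exists_pow_kill hM h
    refine isFiniteLength_iff_isNoetherian_isArtinian.mpr ⟨inferInstance, ?_⟩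
    let J := IsLocalRing.maximalIdeal (X.presheaf.stalk x) ^ k
    have hT : Module.IsTorsionBySet (X.presheaf.stalk x) (M.presheaf.stalk x) J :=
      fun m a => hk a a.2 m
    letI := hT.module
    haveI : Module.Finite (X.presheaf.stalk x ⧸ J) (M.presheaf.stalk x) :=
      Module.Finite.of_restrictScalars_finite (X.presheaf.stalk x) _ _
    haveI : IsArtinianRing (X.presheaf.stalk x ⧸ J) :=
      isArtinian_of_tower (X.presheaf.stalk x)
        (isFiniteLength_iff_isNoetherian_isArtinian.mp
          (InjHullLib.isFiniteLength_quot (n := k) (le_refl J))).2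
    exact isArtinian_of_surjective_algebraMap (R := X.presheaf.stalk x ⧸ J) (M := M.presheaf.stalk x) Ideal.Quotient.mk_surjective

end Groth.Agent.AssLib
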