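import Groth.Agent.AssLib.Noetherian
import Groth.Agent.CohBase.Affine
import Groth.Agent.PullbackMod.OpenLocus
import Groth.Agent.PurityLib.NotAffine

/-! The structure sheaf: associated points, maximal points, complements of affine opens. -/

set_option autoImplicit false
set_option backward.isDefEq.respectTransparency false
set_option linter.style.haveILetI false

universe u

open CategoryTheory AlgebraicGeometry TopologicalSpace

namespace Groth.Agent.AssLib

variable {X : Scheme.{u}} [IsLocallyNoetherian X]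

theorem isAssociatedPrime_stalk_iff {W : X.Opens} (hW : IsAffineOpen W) {x : X} (hx : x ∈ W) :
    IsAssociatedPrime (IsLocalRing.maximalIdeal (X.presheaf.stalk x)) (X.presheaf.stalk x) ↔
      pr hW hx ∈ associatedPrimes Γ(X, W) Γ(X, W) := by
  haveI := QCohLib.isNoetherianRing_section hW
  letI : Algebra Γ(X, W) (X.presheaf.stalk x) := TopCat.Presheaf.algebra_section_stalk X.presheaf ⟨x, hx⟩
  haveI := hW.isLocalization_stalk ⟨x, hx⟩
  haveI : IsLocalizedModule (pr hW hx).primeCompl (Algebra.linearMap Γ(X, W) (X.presheaf.stalk x)) :=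
    isLocalizedModule_iff_isLocalization.mpr (by simpa using hW.isLocalization_stalk ⟨x, hx⟩)
  have h := Module.associatedPrimes.preimage_comap_associatedPrimes_eq_associatedPrimes_of_isLocalizedModule
    (pr hW hx).primeCompl (X.presheaf.stalk x) (Algebra.linearMap Γ(X, W) (X.presheaf.stalk x))
  rw [show IsAssociatedPrime (IsLocalRing.maximalIdeal (X.presheaf.stalk x)) (X.presheaf.stalk x) ↔
    IsLocalRing.maximalIdeal (X.presheaf.stalk x) ∈ associatedPrimes (X.presheaf.stalk x) (X.presheaf.stalk x) from Iff.rfl,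
    ← h, Set.mem_preimage,
    show Ideal.comap (algebraMap Γ(X, W) (X.presheaf.stalk x)) (IsLocalRing.maximalIdeal _) = pr hW hx from
      under_maximalIdeal hW hx]

theorem isAssPoint_structureModule_iff (x : X) :
    Curv2.IsAssPoint (Coh.structureModule X) x ↔
      IsAssociatedPrime (IsLocalRing.maximalIdeal (X.presheaf.stalk x)) (X.presheaf.stalk x) := by
  obtain ⟨W, hW, hxW, -⟩ := exists_affine_mem x (U := ⊤) trivial
  haveI := QCohLib.isNoetherianRing_section hW
  rw [isAssociatedPrime_stalk_iff hW hxW, isAssPoint_iff (M := Coh.structureModule X) hW hxW]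
  rfl

/-- A maximal point in the closure of an open lies in it. -/
theorem mem_of_mem_closure_of_maximal {x : X} (hmax : ∀ y : X, y ⤳ x → y = x) {U : X.Opens}
    (hx : x ∈ closure (U : Set X)) : x ∈ U := by
  obtain ⟨W, hW, hxW, -⟩ := exists_affine_mem x (U := ⊤) trivial
  haveI := QCohLib.isNoetherianRing_section hW
  have hfin : (minimalPrimes Γ(X, W) \ {pr hW hxW}).Finite :=
    (minimalPrimes.finite_of_isNoetherianRing Γ(X, W)).subset Set.sdiff_subset
  obtain ⟨a, ha, hax⟩ : ∃ a, (∀ q ∈ hfin.toFinset, a ∈ q) ∧ a ∉ pr hW hxW := by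
    by_contra hc
    push Not at hc
    obtain ⟨q, hq, hqle⟩ := (Ideal.IsPrime.inf_le' (s := hfin.toFinset) (f := id) inferInstance).mp
      fun z hz => hc z fun q hq => Finset.inf_le (f := id) hq hz
    obtain ⟨hqm, hqne⟩ := hfin.mem_toFinset.mp hq
    haveI := hqm.1.1
    let Q : PrimeSpectrum Γ(X, W) := ⟨q, inferInstance⟩
    have hy := hmax (pt hW Q) ((specializes_iff hW hxW (pt_mem hW Q)).mpr (by rw [pr_pt]; exact hqle))
    refine hqne ?_
    rw [Set.mem_singleton_iff]
    change Q.asIdeal = _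
    rw [← pr_pt hW Q]
    simp only [hy]
  have hxD : x ∈ X.basicOpen a := (PullbackMod.primeCompl_primeIdealOf hW x hxW a).mp hax
  obtain ⟨y, hyD, hyU⟩ := mem_closure_iff.mp hx _ (X.basicOpen a).2 hxD
  have hyW : y ∈ W := X.basicOpen_le a hyD
  refine Specializes.mem_open ?_ U.2 hyU
  rw [specializes_iff hW hyW hxW]
  obtain ⟨q, hq, hqy⟩ := Ideal.exists_minimalPrimes_le (bot_le : (⊥ : Ideal Γ(X, W)) ≤ pr hW hyW)
  by_cases hqx : q = pr hW hxW
  · exact hqx ▸ hqy
  · exact absurd (hqy (ha q (hfin.mem_toFinset.mpr ⟨hq, hqx⟩))) ((PullbackMod.primeCompl_primeIdealOf hW y hyW a).mpr hyD)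

/-- The local ring at a generic point of the complement of an affinely embedded open has dimension at most one. -/
theorem ringKrullDim_stalk_le_one (U : X.Opens) [IsAffineHom U.ι] {ξ : X} (hξ : ξ ∉ U)
    (hgen : ∀ y : X, y ∉ U → y ⤳ ξ → y = ξ) : ringKrullDim (X.presheaf.stalk ξ) ≤ 1 := by
  obtain ⟨W, hW, hxW, -⟩ := exists_affine_mem ξ (U := ⊤) trivial
  haveI := QCohLib.isNoetherianRing_section hW
  letI : Algebra Γ(X, W) (X.presheaf.stalk ξ) := TopCat.Presheaf.algebra_section_stalk X.presheaf ⟨ξ, hxW⟩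
  haveI := hW.isLocalization_stalk ⟨ξ, hxW⟩
  have hWU : IsAffineOpen (W ⊓ U) := by
    have h := (hW.preimage U.ι).image_of_isOpenImmersion U.ι
    rwa [Scheme.Hom.image_preimage_eq_opensRange_inf, Scheme.Opens.opensRange_ι, inf_comm] at h
  let U₁ : (Spec Γ(X, W)).Opens := hW.fromSpec ⁻¹ᵁ (W ⊓ U)
  have hU₁ : IsAffineOpen U₁ := hWU.preimage_of_isOpenImmersion hW.fromSpec (by
    rw [hW.opensRange_fromSpec]; exact inf_le_left)
  let φ : CommRingCat.of Γ(X, W) ⟶ CommRingCat.of (X.presheaf.stalk ξ) := CommRingCat.ofHom (algebraMap _ _)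
  let U₂ : (Spec (CommRingCat.of (X.presheaf.stalk ξ))).Opens := Spec.map φ ⁻¹ᵁ U₁
  have hU₂ : IsAffineOpen U₂ := hU₁.preimage (Spec.map φ)
  have key : ∀ P : PrimeSpectrum (X.presheaf.stalk ξ), P ∈ U₂ ↔
      pt hW ⟨P.asIdeal.comap (algebraMap Γ(X, W) (X.presheaf.stalk ξ)), inferInstance⟩ ∈ W ⊓ U := fun P => Iff.rfl
  refine PurityLib.ringKrullDim_le_one_of_isAffineOpen (X.presheaf.stalk ξ) U₂ (fun P hP => ?_) ?_ hU₂
  · rw [key]
    refine ⟨pt_mem hW _, by_contra fun hn => hP ?_⟩
    have hle : P.asIdeal.comap (algebraMap Γ(X, W) (X.presheaf.stalk ξ)) ≤ pr hW hxW :=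
      (Ideal.comap_mono (IsLocalRing.le_maximalIdeal P.2.ne_top)).trans (under_maximalIdeal hW hxW).le
    have he := hgen _ hn ((specializes_iff hW hxW (pt_mem hW _)).mpr (by rw [pr_pt]; exact hle))
    have h1 : P.asIdeal.comap (algebraMap Γ(X, W) (X.presheaf.stalk ξ)) = pr hW hxW := by
      refine Eq.trans (pr_pt hW ⟨P.asIdeal.comap (algebraMap Γ(X, W) (X.presheaf.stalk ξ)), inferInstance⟩).symm ?_
      simp only [he]
    apply PrimeSpectrum.ext
    rw [← IsLocalization.map_under (pr hW hxW).primeCompl (X.presheaf.stalk ξ) P.asIdeal]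
    rw [show Ideal.under Γ(X, W) P.asIdeal = pr hW hxW from h1]
    exact IsLocalization.AtPrime.map_eq_maximalIdeal (pr hW hxW) (X.presheaf.stalk ξ)
  · intro h
    rw [key] at h
    refine hξ ?_
    have hc : (⟨(IsLocalRing.closedPoint (X.presheaf.stalk ξ)).asIdeal.comap (algebraMap Γ(X, W) (X.presheaf.stalk ξ)),
        inferInstance⟩ : PrimeSpectrum Γ(X, W)) = hW.primeIdealOf ⟨ξ, hxW⟩ := PrimeSpectrum.ext (under_maximalIdeal hW hxW)
    rw [hc, pt_primeIdealOf] at h
    exact h.2

/-- A point of dimension zero is maximal. -/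
theorem maximal_of_ringKrullDim_le_zero {ξ : X} (h : ringKrullDim (X.presheaf.stalk ξ) ≤ 0) :
    ∀ y : X, y ⤳ ξ → y = ξ := by
  intro y hy
  obtain ⟨W, hW, hxW, -⟩ := exists_affine_mem ξ (U := ⊤) trivial
  letI : Algebra Γ(X, W) (X.presheaf.stalk ξ) := TopCat.Presheaf.algebra_section_stalk X.presheaf ⟨ξ, hxW⟩
  haveI := hW.isLocalization_stalk ⟨ξ, hxW⟩
  rw [IsLocalization.AtPrime.ringKrullDim_eq_height (pr hW hxW)] at h
  have hmin := Ideal.height_eq_zero_iff.mp (nonpos_iff_eq_zero.mp (WithBot.coe_le_coe.mp h))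
  have hyW := mem_of_specializes hy hxW
  have hle := (specializes_iff hW hxW hyW).mp hy
  exact (hy.antisymm ((specializes_iff hW hyW hxW).mpr (hmin.2 ⟨inferInstance, bot_le⟩ hle))).eq

end Groth.Agent.AssLib
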