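import Groth.Agent.AssLib.Morph

/-! Depth at least two from extension of sections. -/

set_option autoImplicit false
set_option backward.isDefEq.respectTransparency false
set_option linter.style.haveILetI false

universe u

open CategoryTheory AlgebraicGeometry TopologicalSpace Opposite

namespace Groth.Agent.AssLib

variable {X : Scheme.{u}} [IsLocallyNoetherian X] {M : X.Modules} [Coh.IsQCoh M] {U : X.Opens}

/-- Restriction along an inclusion. -/
noncomputable abbrev rs {W V : X.Opens} (h : V ≤ W) : Γ(M, W) →+ Γ(M, V) := (M.presheaf.map (homOfLE h).op).hom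

omit [IsLocallyNoetherian X] [Coh.IsQCoh M] in
lemma rs_rs {A B C : X.Opens} (h : B ≤ A) (h' : C ≤ B) (m : Γ(M, A)) : rs h' (rs h m) = rs (h'.trans h) m := by
  show (M.presheaf.map (homOfLE h).op ≫ M.presheaf.map (homOfLE h').op) m = _
  rw [← Functor.map_comp]
  rfl

omit [IsLocallyNoetherian X] [Coh.IsQCoh M] in
lemma rs_smul {A B : X.Opens} (h : B ≤ A) (a : Γ(X, A)) (m : Γ(M, A)) :
    rs h (a • m) = X.presheaf.map (homOfLE h).op a • rs h m :=
  Scheme.Modules.map_smul M (homOfLE h) a m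

omit [IsLocallyNoetherian X] [Coh.IsQCoh M] in
lemma res_res {A B C : X.Opens} (h : B ≤ A) (h' : C ≤ B) (a : Γ(X, A)) :
    X.presheaf.map (homOfLE h').op (X.presheaf.map (homOfLE h).op a) = X.presheaf.map (homOfLE (h'.trans h)).op a := by
  show (X.presheaf.map (homOfLE h).op ≫ X.presheaf.map (homOfLE h').op) a = _
  rw [← Functor.map_comp]
  rfl

/-- No section supported outside `U` means no associated point outside `U`. -/
theorem not_isAssPoint_of_injective
    (h : ∀ V : X.Opens, Function.Injective (rs (M := M) (inf_le_left : V ⊓ U ≤ V))) {x : X} (hx : x ∉ U) :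
    ¬ Curv2.IsAssPoint M x := by
  intro hass
  obtain ⟨W, hW, hxW, -⟩ := exists_affine_mem x (U := ⊤) trivial
  haveI := QCohLib.isNoetherianRing_section hW
  obtain ⟨hp, g, hg⟩ := isAssociatedPrime_iff.mp ((isAssPoint_iff hW hxW).mp hass)
  have hg0 : g = 0 := h W (a₁ := g) (a₂ := 0) (by
    rw [map_zero]
    refine eq_zero_of_germ M _ fun y hy => ?_
    refine (M.presheaf.germ_res_apply (homOfLE (inf_le_left : W ⊓ U ≤ W)) y hy g).trans ?_
    obtain ⟨a, hax, hay⟩ : ∃ a ∈ pr hW hxW, a ∉ pr hW hy.1 := by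
      by_contra hc
      push Not at hc
      exact hx (((specializes_iff hW hy.1 hxW).mpr hc).mem_open U.2 hy.2)
    rw [hg, Submodule.mem_colon_singleton, Submodule.mem_bot] at hax
    exact (germ_eq_zero_iff hW hy.1 g).mpr ⟨a, hay, hax⟩)
  refine hp.ne_top (hg.trans (eq_top_iff.mpr fun a _ => ?_))
  rw [Submodule.mem_colon_singleton, hg0, smul_zero, Submodule.mem_bot]

/-- Unique extension of sections across the complement gives socle vanishing modulo a regular element. -/
theorem socleZeroMod_of_bijective (hM : Coh.IsCoh M)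
    (h : ∀ V : X.Opens, Function.Bijective (rs (M := M) (inf_le_left : V ⊓ U ≤ V))) {x : X} (hx : x ∉ U)
    (r : X.presheaf.stalk x) (hreg : IsSMulRegular (M.presheaf.stalk x) r) :
    CAlgBasics.SocleZeroMod (X.presheaf.stalk x) (M.presheaf.stalk x) r := by
  classical
  intro z hz
  obtain ⟨V₁, hxV₁, ζ₁, rfl⟩ := TopCat.Presheaf.exists_germ_eq M.presheaf z
  obtain ⟨V₂, hxV₂, a₂, rfl⟩ := TopCat.Presheaf.exists_germ_eq X.presheaf r
  obtain ⟨W, hW, hxW, hWV⟩ := exists_affine_mem x (U := V₁ ⊓ V₂) ⟨hxV₁, hxV₂⟩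
  haveI := QCohLib.isNoetherianRing_section hW
  haveI := QCohLib.finite_sections_of_isCoh hM hW
  let ζ : Γ(M, W) := rs (hWV.trans inf_le_left) ζ₁
  let a : Γ(X, W) := X.presheaf.map (homOfLE (hWV.trans inf_le_right)).op a₂
  have eζ : M.presheaf.germ W x hxW ζ = M.presheaf.germ V₁ x hxV₁ ζ₁ := M.presheaf.germ_res_apply _ _ _ _
  have ea : X.presheaf.germ W x hxW a = X.presheaf.germ V₂ x hxV₂ a₂ := X.presheaf.germ_res_apply _ _ _ _
  rw [← eζ] at hz
  rw [← eζ]
  rw [← ea] at hz hreg ⊢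
  letI : Algebra Γ(X, W) (X.presheaf.stalk x) := TopCat.Presheaf.algebra_section_stalk X.presheaf ⟨x, hxW⟩
  haveI := hW.isLocalization_stalk ⟨x, hxW⟩
  have gs : ∀ (b : Γ(X, W)) (m : Γ(M, W)),
      M.presheaf.germ W x hxW (b • m) = X.presheaf.germ W x hxW b • M.presheaf.germ W x hxW m := fun b m =>
    PresheafOfModules.germ_smul (R := X.presheaf) M.val x W hxW b m
  let P := pr hW hxW
  obtain ⟨t, htP, ht⟩ : ∃ t : Γ(X, W), t ∉ P ∧ ∀ k : Γ(M, W), a • k = 0 → t • k = 0 := by
    let K : Submodule Γ(X, W) Γ(M, W) := LinearMap.ker (LinearMap.lsmul Γ(X, W) Γ(M, W) a)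
    obtain ⟨s, hs⟩ := IsNoetherian.noetherian K
    have hk : ∀ k ∈ s, ∃ t : Γ(X, W), t ∉ P ∧ t • k = 0 := fun k hk => by
      have hka : a • k = 0 := by
        have hkK : k ∈ K := hs ▸ Submodule.subset_span hk
        exact hkK
      refine (germ_eq_zero_iff hW hxW k).mp (hreg.right_eq_zero_of_smul ?_)
      rw [← gs, hka, map_zero]
    choose t htP ht0 using hk
    refine ⟨∏ k : s, t k.1 k.2, ?_, fun k hk' => ?_⟩
    · intro hmem
      obtain ⟨k, -, hk⟩ := (Ideal.IsPrime.prod_mem_iff (p := P)).mp hmem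
      exact htP k.1 k.2 hk
    · have hkK : k ∈ Submodule.span Γ(X, W) (s : Set Γ(M, W)) := hs.symm ▸ (show k ∈ K from hk')
      clear hk'
      induction hkK using Submodule.span_induction with
      | mem k hk =>
        rw [← Finset.prod_erase_mul _ _ (Finset.mem_univ (⟨k, hk⟩ : s)), mul_smul, ht0, smul_zero]
      | zero => rw [smul_zero]
      | add b c _ _ hb hc =>
        rw [smul_add, hb, hc, add_zero]
      | smul c b _ hb => rw [smul_comm, hb, smul_zero]
  have hlift : ∀ p ∈ P, ∃ σ : Γ(X, W), σ ∉ P ∧ ∃ ω : Γ(M, W), (σ * p) • ζ = a • ω := fun p hp => by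
    obtain ⟨w, hw⟩ := hz (X.presheaf.germ W x hxW p) (by
      have h1 := (under_maximalIdeal hW hxW).ge hp
      exact h1)
    letI := Module.compHom (M.presheaf.stalk x) (X.presheaf.germ W x hxW).hom
    haveI := FlatLocus.isLocalizedModule_germL M hW x hxW
    obtain ⟨⟨m, s⟩, hms⟩ := IsLocalizedModule.surj P.primeCompl (FlatLocus.germL M W x hxW) w
    have h1 : X.presheaf.germ W x hxW (s : Γ(X, W)) • w = M.presheaf.germ W x hxW m := hms
    have h2 : M.presheaf.germ W x hxW (((s : Γ(X, W)) * p) • ζ - a • m) = 0 := by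
      rw [map_sub, gs, gs, map_mul, mul_smul, hw, smul_comm, h1, sub_self]
    obtain ⟨v, hvP, hv⟩ := (germ_eq_zero_iff hW hxW _).mp h2
    refine ⟨v * s, fun hm => (Ideal.IsPrime.mem_or_mem inferInstance hm).elim hvP s.2, v • m, ?_⟩
    rw [smul_sub, sub_eq_zero, smul_smul, smul_comm v a m] at hv
    rw [mul_assoc]
    exact hv
  obtain ⟨gens, hgens⟩ := IsNoetherian.noetherian (R := Γ(X, W)) P
  have hgmem : ∀ p : gens, p.1 ∈ P := fun p => hgens ▸ Submodule.subset_span p.2
  choose σ hσ ω hω using fun p : gens => hlift p.1 (hgmem p)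
  let b : gens → Γ(X, W) := fun p => t * (σ p * p.1)
  let ω' : gens → Γ(M, W) := fun p => t • ω p
  have hb : ∀ p, b p • ζ = a • ω' p := fun p => by
    simp only [b, ω', mul_smul t, hω, smul_comm t a]
  have hbb : ∀ p q, b p • ω' q = b q • ω' p := fun p q => by
    have h0 : a • ((σ p * p.1) • ω q - (σ q * q.1) • ω p) = 0 := by
      rw [smul_sub, smul_comm a, smul_comm a (σ q * q.1), ← hω, ← hω, smul_smul, smul_smul, mul_comm, sub_self]
    have h1 := ht _ h0
    rw [smul_sub, sub_eq_zero] at h1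
    simp only [b, ω']
    rw [mul_smul t, mul_smul t, smul_comm (σ p * p.1) t, smul_comm (σ q * q.1) t, h1]
  let V : X.Opens := X.basicOpen (t * ∏ p, σ p)
  have hxV : x ∈ V := (PullbackMod.primeCompl_primeIdealOf hW x hxW _).mp (fun hm =>
    (Ideal.IsPrime.mem_or_mem inferInstance hm).elim htP fun hm' => by
      obtain ⟨p, -, hp⟩ := (Ideal.IsPrime.prod_mem_iff (p := P)).mp hm'
      exact hσ p hp)
  have hVW : V ≤ W := X.basicOpen_le _
  let O : gens → X.Opens := fun p => X.basicOpen (b p) ⊓ (V ⊓ U)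
  have hOW : ∀ p, O p ≤ W := fun p => inf_le_left.trans (X.basicOpen_le _)
  have hcover : V ⊓ U ≤ iSup O := fun y hy => by
    have hyW : y ∈ W := hVW hy.1
    have hne : ∃ p : gens, p.1 ∉ pr hW hyW := by
      by_contra hc
      push Not at hc
      refine hx (((specializes_iff hW hyW hxW).mpr ?_).mem_open U.2 hy.2)
      rw [show pr hW hxW = P from rfl, ← hgens]
      exact Ideal.span_le.mpr fun p hp => hc ⟨p, hp⟩
    obtain ⟨p, hp⟩ := hne
    refine Opens.mem_iSup.mpr ⟨p, (PullbackMod.primeCompl_primeIdealOf hW y hyW _).mp ?_, hy⟩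
    have hV' := (PullbackMod.primeCompl_primeIdealOf hW y hyW _).mpr hy.1
    intro hm
    rcases Ideal.IsPrime.mem_or_mem inferInstance hm with h1 | h1
    · exact hV' (Ideal.mul_mem_right _ _ h1)
    rcases Ideal.IsPrime.mem_or_mem inferInstance h1 with h2 | h2
    · exact hV' (Ideal.mul_mem_left _ _ (Ideal.mem_of_dvd _ (Finset.dvd_prod_of_mem σ (Finset.mem_univ p)) h2))
    · exact hp h2
  have hu : ∀ p, IsUnit (X.presheaf.map (homOfLE (hOW p)).op (b p)) := fun p => by
    rw [← res_res (X.basicOpen_le (b p)) (inf_le_left : O p ≤ X.basicOpen (b p))]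
    exact RingHom.isUnit_map _ (X.toRingedSpace.isUnit_res_basicOpen (b p))
  let e : ∀ p, Γ(M, O p) := fun p => ((hu p).unit⁻¹ : Γ(X, O p)ˣ).1 • rs (hOW p) (ω' p)
  have he : ∀ p, X.presheaf.map (homOfLE (hOW p)).op (b p) • e p = rs (hOW p) (ω' p) := fun p => by
    simp only [e]
    rw [smul_smul, IsUnit.mul_val_inv, one_smul]
  have hcompat : TopCat.Presheaf.IsCompatible M.presheaf O e := fun p q => by
    have h1 : rs (inf_le_left : O p ⊓ O q ≤ O p) (e p) = rs (inf_le_right : O p ⊓ O q ≤ O q) (e q) := by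
      have hp := congrArg (rs (inf_le_left : O p ⊓ O q ≤ O p)) (he p)
      have hq := congrArg (rs (inf_le_right : O p ⊓ O q ≤ O q)) (he q)
      rw [rs_smul, res_res, rs_rs] at hp hq
      have hup := (RingHom.isUnit_map (X.presheaf.map (homOfLE (inf_le_left : O p ⊓ O q ≤ O p)).op).hom (hu p))
      have huq := (RingHom.isUnit_map (X.presheaf.map (homOfLE (inf_le_right : O p ⊓ O q ≤ O q)).op).hom (hu q))
      rw [res_res] at hup huq
      have hcross := congrArg (rs ((inf_le_left : O p ⊓ O q ≤ O p).trans (hOW p))) (hbb p q)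
      rw [rs_smul _ (b p), rs_smul _ (b q)] at hcross
      refine (hup.mul huq).smul_left_cancel.mp ?_
      rw [mul_comm, mul_smul, hp, mul_comm, mul_smul, hq]
      exact hcross.symm
    exact h1
  obtain ⟨g, hg, -⟩ := TopCat.Sheaf.existsUnique_gluing' (F := ⟨M.presheaf, M.isSheaf⟩) O (V ⊓ U)
    (fun p => homOfLE inf_le_right) hcover e hcompat
  obtain ⟨ε, hε⟩ := (h V).2 g
  have key : X.presheaf.map (homOfLE hVW).op a • ε = rs hVW ζ := by
    refine (h V).1 ?_
    refine TopCat.Sheaf.eq_of_locally_eq' (F := ⟨M.presheaf, M.isSheaf⟩) O (V ⊓ U)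
      (fun p => homOfLE inf_le_right) hcover _ _ fun p => ?_
    have hgp : rs (inf_le_right : O p ≤ V ⊓ U) g = e p := hg p
    change rs (inf_le_right : O p ≤ V ⊓ U) (rs inf_le_left (X.presheaf.map (homOfLE hVW).op a • ε)) =
      rs (inf_le_right : O p ≤ V ⊓ U) (rs inf_le_left (rs hVW ζ))
    refine (hu p).smul_left_cancel.mp ?_
    rw [rs_smul, rs_smul, hε, hgp, res_res, res_res, smul_comm, he, rs_rs, rs_rs, ← rs_smul, ← rs_smul, ← hb]
  refine ⟨M.presheaf.germ V x hxV ε, ?_⟩
  have h3 := congrArg (M.presheaf.germ V x hxV) key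
  have h4 := (PresheafOfModules.germ_smul (R := X.presheaf) M.val x V hxV (X.presheaf.map (homOfLE hVW).op a) ε).symm.trans h3
  refine (M.presheaf.germ_res_apply (homOfLE hVW) x hxV ζ).symm.trans (h4.symm.trans ?_)
  exact congrArg (· • M.presheaf.germ V x hxV ε) (X.presheaf.germ_res_apply (homOfLE hVW) x hxV a)

/-- Depth at least two outside an open across which sections extend uniquely. -/
theorem two_le_depth_of_bijective (hM : Coh.IsCoh M)
    (h : ∀ V : X.Opens, Function.Bijective (rs (M := M) (inf_le_left : V ⊓ U ≤ V))) {x : X} (hx : x ∉ U) :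
    (2 : ℕ∞) ≤ LocCoh.depth (X.presheaf.stalk x) (M.presheaf.stalk x) := by
  haveI : Module.Finite (X.presheaf.stalk x) (M.presheaf.stalk x) := PullbackMod.finite_stalk_of_isFT hM.2 x
  rw [CAlgBasics.two_le_depth_iff]
  exact ⟨fun z hz => by_contra fun hne =>
      not_isAssPoint_of_injective (fun V => (h V).1) hx (isAssPoint_of_kill z hne hz),
    fun r _ hreg => socleZeroMod_of_bijective hM h hx r hreg⟩

end Groth.Agent.AssLib
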